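import Groth.Prelude.Def_Canon
import Groth.Prelude.Def_RedSub
import Groth.Agent.Lib.GrassGen.ExtPowFree
import Groth.Agent.Lib.Kaehler.SmoothChart
import Groth.Agent.Lib.Kaehler.DOmega
import Groth.Agent.Lib.TensorMod.Invertible
import Groth.Agent.Lib.ProjSpace.BaseChange
import Groth.Agent.H2.Rigid.Smooth
import Groth.Agent.H2.Rigid.H0
import Groth.Agent.Lib.QCoh.Pushforward

/-!
# Pluricanonical sheaves of smooth locally projective morphisms
-/

set_option autoImplicit false
set_option linter.style.haveILetI false
set_option backward.isDefEq.respectTransparency false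
universe u

open CategoryTheory CategoryTheory.Limits AlgebraicGeometry

namespace Groth.Agent.Lib.PluriCan

open Groth.Agent.Lib
open Groth.Agent.Lib.TensorMod.Dual (rs)
open Groth.Agent.Lib.Modules.AffineHom (exists_affine)

variable {X S : Scheme.{u}}

/-- A top exterior power of a locally free module is invertible. -/
theorem rank_top {E L : X.Modules} {q : ℕ} (hE : FlatMod.IsFinLocFreeOfRank q E)
    (hL : ExtPow.IsExtPow q E L) : FlatMod.IsFinLocFreeOfRank 1 L := by
  classical
  obtain ⟨φ, hφ⟩ := hL
  intro x
  obtain ⟨U, hxU, ⟨i⟩⟩ := hE x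
  obtain ⟨e₀, he₀⟩ := TensorMod.Basis.exists_basis_of_iso i
  obtain ⟨A, hAU, hxA⟩ := exists_affine hxU
  let e := fun k => rs E hAU (e₀ k)
  have he : TensorMod.Basis.IsBasis e := he₀.res hAU
  let I := Set.powersetCard (Fin q) q
  have hI : Fintype.card I = 1 := by
    rw [← Nat.card_eq_fintype_card, Set.powersetCard.card, Nat.card_fin, Nat.choose_self]
  let ε : I ≃ Fin 1 := (Fintype.equivFin I).trans (finCongr hI)
  let w : Fin 1 → Γ(L, A.1) := fun k =>
    (φ A).symm (exteriorPower.ιMulti_family Γ(X, A.1) q e (ε.symm k))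
  have hw : Pinch.StalkFrame.IsFrame L A.1 w := GrassGen.ExtPowFree.isFrame_of_affine fun V hV => by
    let b : Module.Basis (Fin q) Γ(X, V.1) Γ(E, V.1) :=
      Module.Basis.ofEquivFun (LinearEquiv.ofBijective
        (Fintype.linearCombination Γ(X, V.1) fun k => rs E hV (e k)) (by
          rw [show ⇑(Fintype.linearCombination Γ(X, V.1) fun k => rs E hV (e k)) = TensorMod.Basis.comb e hV from
            funext fun a => by simp only [Fintype.linearCombination_apply, TensorMod.Basis.comb]]
          exact he V.1 hV)).symm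
    have hb : ⇑b = fun k => rs E hV (e k) := funext fun k => by
      simp only [b, Module.Basis.coe_ofEquivFun, LinearEquiv.symm_symm, LinearEquiv.ofBijective_apply]
      exact (Fintype.linearCombination_apply_single _ _ k 1).trans (one_smul _ _)
    let B : Module.Basis (Fin 1) Γ(X, V.1) Γ(L, V.1) :=
      ((b.exteriorPower q).map (φ V).symm).reindex ε
    have hB : ∀ k, B k = rs L hV (w k) := fun k => by
      show (((b.exteriorPower q).map (φ V).symm).reindex ε) k = _
      rw [Module.Basis.reindex_apply, Module.Basis.map_apply]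
      refine Eq.trans ?_ (hφ A V hV _).symm
      rw [exteriorPower.basis_apply, hb]
      rfl
    rw [show Pinch.StalkFrame.comb w hV = B.equivFun.symm from funext fun c => by
      simp only [Pinch.StalkFrame.comb, Module.Basis.equivFun_symm_apply, hB]]
    exact B.equivFun.symm.bijective
  exact ⟨A.1, hxA, TensorMod.Basis.exists_iso_of_basis (e := w) fun V hV =>
    ⟨Pinch.StalkFrame.comb_injective hw hV, Pinch.StalkFrame.comb_surjective hw hV⟩⟩

/-- A locally projective morphism is proper. -/
theorem isProper (f : X ⟶ S) (hproj : RedSub.IsLocallyProjective (Over.mk f)) : IsProper f := by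
  choose V hsV n e he hw using hproj
  have hcov : ⨆ s, V s = ⊤ := top_le_iff.1 fun s _ => TopologicalSpace.Opens.mem_iSup.2 ⟨s, hsV s⟩
  refine IsZariskiLocalAtTarget.of_iSup_eq_top (P := @IsProper) V hcov fun s => ?_
  haveI := he s
  haveI := ProjSpace.BaseChange.isProper_toBase (n := n s) (V s : Scheme.{u})
  have h1 : IsProper (Red.bc (V s).ι (Over.mk f)).hom := by
    rw [← hw s]; infer_instance
  have h := (MorphismProperty.arrow_mk_iso_iff @IsProper (morphismRestrictOpensRange f (V s).ι)).2 h1
  rw [Scheme.Opens.opensRange_ι] at h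
  exact h

/-- The differentials of a smooth morphism. -/
theorem rank_omega (f : X ⟶ S) [QuasiSeparated f] (n : ℕ) [SmoothOfRelativeDimension n f] :
    FlatMod.IsFinLocFreeOfRank n (Omega.sheaf f) := by
  intro x
  obtain ⟨V, hV, U, hU, hx, e, hs⟩ :=
    SmoothOfRelativeDimension.exists_isStandardSmoothOfRelativeDimension (n := n) (f := f) x
  haveI : Nonempty U := ⟨⟨x, hx⟩⟩
  exact ⟨U, hx, Kaehler.SmoothChart.nonempty_restrict_free hV hU e hs
    (Kaehler.DOmega.isUniversal_dOmega f)⟩

theorem smooth_setup (f : X ⟶ S) [IsLocallyNoetherian S] (hproj : RedSub.IsLocallyProjective (Over.mk f))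
    (n : ℕ) [SmoothOfRelativeDimension n f] [GeometricallyConnected f] :
    IsProper f ∧ Flat f ∧ IsLocallyNoetherian X ∧ Surjective f ∧ H2.Rigid.H0 f := by
  haveI := isProper f hproj
  haveI : Smooth f := SmoothOfRelativeDimension.smooth n f
  haveI : IsLocallyNoetherian X := LocallyOfFiniteType.isLocallyNoetherian f
  haveI : GeometricallyReduced f := H2.Rigid.geometricallyReduced_of_smooth f
  exact ⟨inferInstance, inferInstance, inferInstance, inferInstance, H2.Rigid.H0.of_geometrically f⟩

/-- Powers of a relative canonical module are invertible. -/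
theorem isInvertible_pow (f : X ⟶ S) [QuasiSeparated f] (n : ℕ) [SmoothOfRelativeDimension n f]
    {ω : X.Modules} (hω : Canon.IsTopDiff f n ω) (m : ℕ) : PicF.IsInvertible (CohB1.tensorPow ω m) :=
  TensorMod.Invertible.isInvertible_tensorPow
    (TensorMod.LocFree.isInvertible_of_rank_one (rank_top (rank_omega f n) hω)) m

end Groth.Agent.Lib.PluriCan
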