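import Groth.Agent.Lib.PluriCan.Basic
import Groth.Agent.Lib.Cube.SeesawCons
import Groth.Agent.Lib.DescAlg.LocFreeDescent

/-!
# Direct images of modules with invertible pullback
-/

set_option autoImplicit false
set_option linter.style.haveILetI false
set_option backward.isDefEq.respectTransparency false
universe u

open CategoryTheory CategoryTheory.Limits AlgebraicGeometry

namespace Groth.Agent.Lib.PluriCan

open Groth.Agent.Lib
open Groth.Agent.Lib.TensorMod.Dual (rs)

variable {X S : Scheme.{u}}

/-- Rank one descends along surjections. -/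
theorem rank_one_of_pullback (f : X ⟶ S) [Surjective f] {N : S.Modules} (hN : FlatMod.IsFinLocFree N)
    (h : FlatMod.IsFinLocFreeOfRank 1 ((Scheme.Modules.pullback f).obj N)) :
    FlatMod.IsFinLocFreeOfRank 1 N := by
  intro s
  obtain ⟨U, k, hsU, ⟨i⟩⟩ := hN s
  obtain ⟨z, hz⟩ := f.surjective s
  obtain ⟨e, he⟩ := Pinch.StalkFrame.exists_isFrame_of_iso i
  have hz' : z ∈ f ⁻¹ᵁ U := by
    show f z ∈ U
    rw [hz]; exact hsU
  have h1 := (he.pbRes f (le_refl (f ⁻¹ᵁ U))) z hz'
  obtain ⟨U', hzU', ⟨i'⟩⟩ := h z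
  obtain ⟨e', he'⟩ := Pinch.StalkFrame.exists_isFrame_of_iso i'
  have h2 := he' z hzU'
  let b1 := Module.Basis.ofEquivFun (LinearEquiv.ofBijective
    (Fintype.linearCombination (X.presheaf.stalk z) fun j => ((Scheme.Modules.pullback f).obj N).presheaf.germ
      (f ⁻¹ᵁ U) z hz' (ZarCoh.FlatBC.PullbackSections.pbRes f N (le_refl (f ⁻¹ᵁ U)) (e j))) h1).symm
  let b2 := Module.Basis.ofEquivFun (LinearEquiv.ofBijective
    (Fintype.linearCombination (X.presheaf.stalk z) fun j =>
      ((Scheme.Modules.pullback f).obj N).presheaf.germ U' z hzU' (e' j)) h2).symm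
  have hk : k = 1 := by simpa using Fintype.card_congr (b1.indexEquiv b2)
  subst hk
  exact ⟨U, hsU, ⟨i⟩⟩

/-- The direct image of an invertible module pulled back from it is invertible. -/
theorem rank_one_push (f : X ⟶ S) [QuasiCompact f] [QuasiSeparated f] [Flat f] [Surjective f]
    {L : X.Modules} (hL : PicF.IsInvertible L)
    (hev : IsIso ((Scheme.Modules.pullbackPushforwardAdjunction f).counit.app L)) :
    FlatMod.IsFinLocFreeOfRank 1 ((Scheme.Modules.pushforward f).obj L) := by
  haveI : L.IsQuasicoherent := Modules.AffineSections.isQCoh_of_isFinLocFree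
    (TensorMod.LocFree.of_rank (TensorMod.LocFree.of_isInvertible hL))
  haveI : ((Scheme.Modules.pushforward f).obj L).IsQuasicoherent := QCoh.Pushforward.isQCoh_pushforward f
  have h : FlatMod.IsFinLocFreeOfRank 1 ((Scheme.Modules.pullback f).obj ((Scheme.Modules.pushforward f).obj L)) :=
    TensorMod.LocFree.rank_of_iso (asIso ((Scheme.Modules.pullbackPushforwardAdjunction f).counit.app L)).symm
      (TensorMod.LocFree.of_isInvertible hL)
  refine rank_one_of_pullback f ?_ h
  exact DescAlg.LocFreeDescent.isFinLocFree_of_pullback f _ (TensorMod.LocFree.of_rank h)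

end Groth.Agent.Lib.PluriCan
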